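import Groth.Agent.InjMod.Affine
import Groth.Agent.ExtZShLib.QCohRes
import Groth.Agent.InjMod.StalkInj
import Groth.Agent.RegLoc.Homological
import Groth.Agent.Gor.Basic
import Groth.Agent.Props.NormalCM
import Groth.Agent.S3731
import Groth.Prelude.Def_DCoh2

/-!
# Ext vanishing above the dimension on a regular scheme
-/

set_option autoImplicit false
set_option maxHeartbeats 1000000

universe u v w

open CategoryTheory CategoryTheory.Limits CategoryTheory.Abelian AlgebraicGeometry
open Groth.Agent.PullStalk.Exact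

noncomputable section

namespace Groth.Agent.RegExtVanish

attribute [local instance] HasDerivedCategory.standard

/-- Dimension shifting down a chain of short exact sequences with injective middle terms. -/
theorem subsingleton_ext_syz {C : Type u} [Category.{v} C] [Abelian C] [HasExt.{w} C]
    (Y I : ℕ → C) (f : ∀ j, Y j ⟶ I j) (g : ∀ j, I j ⟶ Y (j + 1)) (w : ∀ j, f j ≫ g j = 0)
    (hS : ∀ j, (ShortComplex.mk (f j) (g j) (w j)).ShortExact) (hI : ∀ j, Injective (I j)) (A : C) :
    ∀ (j i : ℕ), 1 ≤ i → (Subsingleton (Ext A (Y j) i) ↔ Subsingleton (Ext A (Y 0) (i + j))) := by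
  intro j
  induction j with
  | zero => exact fun i _ => Iff.rfl
  | succ j ih =>
    intro i hi
    rw [show i + (j + 1) = (i + 1) + j by omega, ← ih (i + 1) (by omega)]
    have : Injective (I j) := hI j
    have h₂ : ∀ n, 1 ≤ n → ∀ x : Ext A (I j) n, x = 0 := fun n hn x => by
      obtain ⟨n', rfl⟩ := Nat.exists_eq_add_of_le' hn
      exact Ext.eq_zero_of_injective x
    refine ⟨fun h => subsingleton_of_forall_eq 0 fun x => ?_, fun h => subsingleton_of_forall_eq 0 fun x => ?_⟩
    · obtain ⟨y, rfl⟩ := Ext.covariant_sequence_exact₁ A (hS j) x (h₂ (i + 1) (by omega) _) rfl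
      exact (congrArg (fun z => Ext.comp z (hS j).extClass rfl) (h.elim y 0)).trans (Ext.zero_comp ..)
    · obtain ⟨y, rfl⟩ := Ext.covariant_sequence_exact₃ A (hS j) x rfl (h.elim _ _)
      exact (congrArg (fun z => Ext.comp z _ (add_zero i)) (h₂ i hi y)).trans (Ext.zero_comp ..)

/-- Maps out of the kernel extend when the first Ext of the quotient vanishes. -/
theorem exists_extension {C : Type u} [Category.{v} C] [Abelian C] [HasExt.{w} C] {T : ShortComplex C}
    (hT : T.ShortExact) {M : C} (h : Subsingleton (Ext T.X₃ M 1)) (φ : T.X₁ ⟶ M) :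
    ∃ χ : T.X₂ ⟶ M, T.f ≫ χ = φ := by
  obtain ⟨χ, hχ⟩ := Ext.contravariant_sequence_exact₁ hT _ (Ext.mk₀ φ) (show 1 + 0 = 1 from rfl) (h.elim _ _)
  obtain ⟨χ, rfl⟩ := (Ext.mk₀_bijective _ _).2 χ
  rw [Ext.mk₀_comp_mk₀] at hχ
  exact ⟨χ, (Ext.mk₀_bijective _ _).1 hχ⟩

variable {X : Scheme.{u}}

section Syz

variable [IsNoetherian X] (hreg : ∀ x : X, IsRegularLocalRing (X.presheaf.stalk x)) {d : ℕ}
  (hd : topologicalKrullDim X = d) [EnoughInjectives X.Modules]
  (G : {M : X.Modules // Coh.IsQCoh M})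

include hreg hd in
/-- The `d`-th cosyzygy of a quasi-coherent module on a regular scheme of dimension `d` is injective. -/
theorem injective_syz : Injective (ExtZShLib.syz G d).1 := by
  have : (ExtZShLib.syz G d).1.IsQuasicoherent := (ExtZShLib.syz G d).2
  refine InjMod.injective_of_stalks _ fun x => ?_
  let A := X.presheaf.stalk x
  have := hreg x
  obtain ⟨c, hc⟩ := Gor.Basic.exists_natCast_ringKrullDim (A := A)
  have hcd : c ≤ d := by
    have h := Props.NormalCM.ringKrullDim_stalk_le X x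
    rw [hc, hd] at h
    exact_mod_cast h
  let Y : ℕ → ModuleCat.{u} A := fun j => ModuleCat.of A ((ExtZShLib.syz G j).1.presheaf.stalk x)
  let I : ℕ → ModuleCat.{u} A := fun j =>
    ModuleCat.of A ((ExtZShLib.hull (ExtZShLib.syz G j)).1.presheaf.stalk x)
  let f : ∀ j, Y j ⟶ I j := fun j => ModuleCat.ofHom (stalkLin (ExtZShLib.emb (ExtZShLib.syz G j)) x)
  let g : ∀ j, I j ⟶ Y (j + 1) := fun j => ModuleCat.ofHom (stalkLin (ExtZShLib.proj G j) x)
  have hex : ∀ j, Function.Injective (f j).hom ∧ Function.Exact (f j).hom (g j).hom ∧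
      Function.Surjective (g j).hom := fun j => stalk_exact (ExtZShLib.syzSeq_shortExact G j) x
  have w : ∀ j, f j ≫ g j = 0 := fun j =>
    ModuleCat.hom_ext (LinearMap.ext fun t => (hex j).2.1.apply_apply_eq_zero t)
  have hS : ∀ j, (ShortComplex.mk (f j) (g j) (w j)).ShortExact := fun j =>
    { exact := (ShortComplex.moduleCat_exact_iff _).2 fun t ht => ((hex j).2.1 t).1 ht
      mono_f := (ModuleCat.mono_iff_injective _).2 (hex j).1
      epi_g := (ModuleCat.epi_iff_surjective _).2 (hex j).2.2 }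
  have hI : ∀ j, Injective (I j) := fun j => by
    have : Injective (ExtZShLib.hull (ExtZShLib.syz G j)).1 := inferInstance
    have : Module.Injective A (I j) := InjMod.stalk_injective _ this x
    exact Module.injective_object_of_injective_module A _
  refine Module.Baer.injective fun 𝔞 φ => ?_
  let T : ShortComplex (ModuleCat.{u} A) :=
    ShortComplex.mk (ModuleCat.ofHom 𝔞.subtype) (ModuleCat.ofHom 𝔞.mkQ)
      (ModuleCat.hom_ext (LinearMap.ext fun a => (Submodule.Quotient.mk_eq_zero _).2 a.2))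
  have hT : T.ShortExact :=
    { exact := (ShortComplex.moduleCat_exact_iff _).2 fun t ht => ⟨⟨t, (Submodule.Quotient.mk_eq_zero _).1 ht⟩, rfl⟩
      mono_f := (ModuleCat.mono_iff_injective _).2 Subtype.val_injective
      epi_g := (ModuleCat.epi_iff_surjective _).2 (Submodule.mkQ_surjective _) }
  have : HasProjectiveDimensionLE T.X₃ c := RegLoc.Homological.pd_le_dim hc (A ⧸ 𝔞)
  have h0 : Subsingleton (Ext T.X₃ (Y 0) (1 + d)) :=
    HasProjectiveDimensionLT.subsingleton _ (c + 1) _ (by omega) _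
  obtain ⟨χ, hχ⟩ := exists_extension hT ((subsingleton_ext_syz Y I f g w hS hI T.X₃ d 1 le_rfl).2 h0)
    (ModuleCat.ofHom φ)
  exact ⟨χ.hom, fun a ha => LinearMap.congr_fun (congrArg ModuleCat.Hom.hom hχ) ⟨a, ha⟩⟩

include hreg hd in
theorem hom_single_eq_zero (F : X.Modules) (n : ℤ) (hn : (d : ℤ) < n)
    (φ : DCoh.inD X F ⟶ (shiftFunctor (DCoh.D X) n).obj (DCoh.inD X G.1)) : φ = 0 := by
  let := HasExt.standard X.Modules
  obtain ⟨m, rfl⟩ : ∃ m : ℕ, n = m := ⟨n.toNat, by omega⟩
  have hm : d < m := by exact_mod_cast hn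
  have hi := injective_syz hreg hd G
  have h1 : Subsingleton (Ext F (ExtZShLib.syz G d).1 (m - d)) := by
    obtain ⟨j, hj⟩ : ∃ j, m - d = j + 1 := ⟨m - d - 1, by omega⟩
    rw [hj]
    exact subsingleton_of_forall_eq 0 fun x => Ext.eq_zero_of_injective x
  have h2 := (subsingleton_ext_syz (fun j => (ExtZShLib.syz G j).1) (fun j => (ExtZShLib.hull (ExtZShLib.syz G j)).1)
    (fun j => ExtZShLib.emb _) (fun j => ExtZShLib.proj G j) (ExtZShLib.emb_proj G)
    (ExtZShLib.syzSeq_shortExact G) (fun j => inferInstance) F d (m - d) (by omega)).1 h1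
  rw [show m - d + d = m by omega] at h2
  have h3 : Subsingleton (Ext F G.1 m) := h2
  exact @Subsingleton.elim _ Ext.homEquiv.symm.subsingleton φ 0

end Syz

end Groth.Agent.RegExtVanish
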