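import Mathlib.Algebra.Homology.DerivedCategory.TStructure
import Mathlib.CategoryTheory.Triangulated.TStructure.TruncLEGT
import Mathlib.Algebra.Homology.DerivedCategory.SingleTriangle
import Mathlib.Algebra.Homology.DerivedCategory.HomologySequence
import Mathlib.Algebra.Homology.DerivedCategory.FullyFaithful

/-!
# Dévissage for morphisms between bounded objects
-/

set_option autoImplicit false

universe w v u

open CategoryTheory CategoryTheory.Limits DerivedCategory Pretriangulated

namespace Groth.Agent.RegExtVanish

variable {A : Type u} [Category.{v} A] [Abelian A] [HasDerivedCategory.{w} A]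

/-- Shifting single objects. -/
theorem hom_single_eq_zero_of_shift {H G : A} {p q n : ℤ} (hn : q + n = p)
    (h : ∀ φ : (singleFunctor A 0).obj H ⟶ ((singleFunctor A 0).obj G)⟦n⟧, φ = 0)
    (φ : (singleFunctor A p).obj H ⟶ (singleFunctor A q).obj G) : φ = 0 := by
  apply (shiftFunctor (DerivedCategory A) p).map_injective
  rw [Functor.map_zero]
  let eH := ((singleFunctors A).shiftIso p 0 p (add_zero p)).app H
  let eG₁ := ((singleFunctors A).shiftIso p (q - p) q (by omega)).app G
  let eG₂ := ((singleFunctors A).shiftIso n (q - p) 0 (by omega)).app G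
  let e : ((singleFunctor A q).obj G)⟦p⟧ ≅ ((singleFunctor A 0).obj G)⟦n⟧ := eG₁ ≪≫ eG₂.symm
  have h1 := h (eH.inv ≫ φ⟦p⟧' ≫ e.hom)
  rw [← cancel_epi eH.inv, ← cancel_mono e.hom, Category.assoc, h1, comp_zero, zero_comp]

/-- Vanishing of maps from a bounded object reduces to single objects. -/
theorem hom_eq_zero_of_bounded_source {L : DerivedCategory A} (lo : ℤ)
    (h : ∀ (p : ℤ) (H : A), lo ≤ p → ∀ φ : (singleFunctor A p).obj H ⟶ L, φ = 0) :
    ∀ (m : ℕ) (K : DerivedCategory A) (c : ℤ), K.IsGE lo → K.IsLE c → c < lo + m →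
      ∀ φ : K ⟶ L, φ = 0 := by
  intro m
  induction m with
  | zero =>
    intro K c hge hle hc φ
    have : (TStructure.t : Triangulated.TStructure (DerivedCategory A)).IsLE K c := hle
    have : (TStructure.t : Triangulated.TStructure (DerivedCategory A)).IsGE K lo := hge
    exact ((TStructure.t : Triangulated.TStructure (DerivedCategory A)).isZero K c lo (by omega)).eq_of_src _ _
  | succ m ih =>
    intro K c hge hle hc φ
    let t : Triangulated.TStructure (DerivedCategory A) := TStructure.t
    have : t.IsLE K c := hle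
    have : t.IsGE K lo := hge
    have h1 : (t.truncLEι (c - 1)).app K ≫ φ = 0 := by
      by_cases hcl : c - 1 < lo
      · have : t.IsGE ((t.truncLE (c - 1)).obj K) lo := inferInstance
        exact (t.isZero ((t.truncLE (c - 1)).obj K) (c - 1) lo hcl).eq_of_src _ _
      · exact ih ((t.truncLE (c - 1)).obj K) (c - 1) (inferInstance : t.IsGE _ lo)
          (inferInstance : t.IsLE _ (c - 1)) (by omega) _
    obtain ⟨φ', hφ'⟩ := Triangle.yoneda_exact₂ _ (t.triangleLEGT_distinguished (c - 1) K) φ h1
    suffices φ' = 0 by rw [hφ', this]; exact comp_zero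
    have i1 : ((t.truncGT (c - 1)).obj K).IsGE c := by
      have : t.IsGE ((t.truncGT (c - 1)).obj K) c := inferInstance
      exact this
    have i2 : ((t.truncGT (c - 1)).obj K).IsLE c := (inferInstance : t.IsLE _ c)
    obtain ⟨S, ⟨eS⟩⟩ := exists_iso_singleFunctor_obj_of_isGE_of_isLE ((t.truncGT (c - 1)).obj K) c
    by_cases hclo : c < lo
    · have hz : IsZero K := t.isZero K c lo hclo
      have hz' : IsZero ((t.truncGT (c - 1)).obj K) := Functor.map_isZero (t.truncGT (c - 1)) hz
      exact hz'.eq_of_src _ _
    · refine (cancel_epi eS.inv).1 ?_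
      exact (h c S (by omega) _).trans comp_zero.symm

/-- Vanishing of maps into a bounded object reduces to single objects with cohomology in `P`. -/
theorem hom_eq_zero_of_bounded_target {K : DerivedCategory A} (P : A → Prop)
    (hP : ∀ {M N : A}, (M ≅ N) → P M → P N) (hi : ℤ)
    (h : ∀ (q : ℤ) (G : A), q ≤ hi → P G → ∀ φ : K ⟶ (singleFunctor A q).obj G, φ = 0) :
    ∀ (m : ℕ) (L : DerivedCategory A) (b : ℤ), L.IsGE b → L.IsLE hi → hi < b + m →
      (∀ i, b ≤ i → P ((homologyFunctor A i).obj L)) → ∀ φ : K ⟶ L, φ = 0 := by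
  intro m
  induction m with
  | zero =>
    intro L b hge hle hb _ φ
    have : (TStructure.t : Triangulated.TStructure (DerivedCategory A)).IsLE L hi := hle
    have : (TStructure.t : Triangulated.TStructure (DerivedCategory A)).IsGE L b := hge
    exact ((TStructure.t : Triangulated.TStructure (DerivedCategory A)).isZero L hi b (by omega)).eq_of_tgt _ _
  | succ m ih =>
    intro L b hge hle hb hPL φ
    let t : Triangulated.TStructure (DerivedCategory A) := TStructure.t
    have : t.IsLE L hi := hle
    have : t.IsGE L b := hge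
    by_cases hbh : hi < b
    · exact (t.isZero L hi b hbh).eq_of_tgt _ _
    have hT := t.triangleLEGT_distinguished b L
    have iso_high : ∀ i, b < i → IsIso ((homologyFunctor A i).map ((t.truncGTπ b).app L)) := fun i hi' => by
      have : Mono ((homologyFunctor A i).map ((t.truncGTπ b).app L)) :=
        (HomologySequence.mono_homologyMap_mor₂_iff _ hT i).mpr
          (IsZero.eq_of_src (isZero_of_isLE ((t.truncLE b).obj L) b i hi') _ _)
      have : Epi ((homologyFunctor A i).map ((t.truncGTπ b).app L)) :=
        (HomologySequence.epi_homologyMap_mor₂_iff _ hT i (i + 1) rfl).mpr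
          (IsZero.eq_of_tgt (isZero_of_isLE ((t.truncLE b).obj L) b (i + 1) (by omega)) _ _)
      exact isIso_of_mono_of_epi _
    have h1 : φ ≫ (t.truncGTπ b).app L = 0 := by
      refine ih ((t.truncGT b).obj L) (b + 1) ?_ (inferInstance : t.IsLE _ hi) (by omega)
        (fun i hi' => ?_) _
      · have : t.IsGE ((t.truncGT b).obj L) (b + 1) := inferInstance
        exact this
      · have := iso_high i (by omega)
        exact hP (asIso ((homologyFunctor A i).map ((t.truncGTπ b).app L))) (hPL i (by omega))
    obtain ⟨φ', hφ'⟩ := Triangle.coyoneda_exact₂ _ hT φ h1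
    suffices φ' = 0 by rw [hφ', this]; exact zero_comp
    have i1 : ((t.truncLE b).obj L).IsGE b := (inferInstance : t.IsGE _ b)
    have i2 : ((t.truncLE b).obj L).IsLE b := (inferInstance : t.IsLE _ b)
    obtain ⟨S, ⟨eS⟩⟩ := exists_iso_singleFunctor_obj_of_isGE_of_isLE ((t.truncLE b).obj L) b
    have hι : IsIso ((homologyFunctor A b).map ((t.truncLEι b).app L)) := by
      have : Mono ((homologyFunctor A b).map ((t.truncLEι b).app L)) :=
        (HomologySequence.mono_homologyMap_mor₁_iff _ hT (b - 1) b (by omega)).mpr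
          (IsZero.eq_of_src (isZero_of_isGE ((t.truncGT b).obj L) (b + 1) (b - 1) (by omega)) _ _)
      have : Epi ((homologyFunctor A b).map ((t.truncLEι b).app L)) :=
        (HomologySequence.epi_homologyMap_mor₁_iff _ hT b).mpr
          (IsZero.eq_of_tgt (isZero_of_isGE ((t.truncGT b).obj L) (b + 1) b (by omega)) _ _)
      exact isIso_of_mono_of_epi _
    have hS : P S := hP ((@asIso _ _ _ _ _ hι).symm ≪≫ (homologyFunctor A b).mapIso eS ≪≫
      (singleFunctorCompHomologyFunctorIso A b).app S) (hPL b le_rfl)
    refine (cancel_mono eS.hom).1 ?_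
    exact (h b S (by omega) hS _).trans zero_comp.symm

end Groth.Agent.RegExtVanish
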